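import Groth.Agent.H4Weil.Local
import Mathlib.AlgebraicGeometry.Morphisms.Affine
import Mathlib.Algebra.Category.Ring.Constructions
import Mathlib.LinearAlgebra.TensorProduct.Basis
import Mathlib.RingTheory.MvPolynomial.Basic

/-!
# `Mor_S(Z, X)` for affine schemes with `Z` finite free over `S`
-/

universe u

open CategoryTheory CategoryTheory.Limits AlgebraicGeometry Opposite TensorProduct

namespace Groth.Agent.H4Weil

variable {X Y : Scheme.{u}}

/-- A morphism to an affine scheme from a map of global sections. -/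
noncomputable def ofΓ [IsAffine X] (ψ : Γ(X, ⊤) ⟶ Γ(Y, ⊤)) : Y ⟶ X :=
  Y.toSpecΓ ≫ Spec.map ψ ≫ X.isoSpec.inv

theorem ofΓ_appTop [IsAffine X] (h : Y ⟶ X) : ofΓ h.appTop = h := by
  rw [ofΓ, ← Scheme.toSpecΓ_naturality_assoc, ← Scheme.isoSpec_hom, Iso.hom_inv_id, Category.comp_id]

theorem appTop_ofΓ [IsAffine X] (ψ : Γ(X, ⊤) ⟶ Γ(Y, ⊤)) : (ofΓ ψ).appTop = ψ := by
  have hX : X.isoSpec.inv.appTop ≫ (Scheme.ΓSpecIso _).hom = 𝟙 _ := by
    have h : X.isoSpec.inv.appTop ≫ X.isoSpec.hom.appTop = 𝟙 _ := by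
      rw [← Scheme.Hom.comp_appTop, Iso.hom_inv_id]; rfl
    rwa [Scheme.isoSpec_hom, Scheme.toSpecΓ_appTop] at h
  rw [ofΓ, Scheme.Hom.comp_appTop, Scheme.Hom.comp_appTop, Category.assoc, Scheme.toSpecΓ_appTop,
    Scheme.ΓSpecIso_naturality, ← Category.assoc, hX, Category.id_comp]

theorem hom_ext_appTop [IsAffine X] {h h' : Y ⟶ X} (e : h.appTop = h'.appTop) : h = h' := by
  rw [← ofΓ_appTop h, ← ofΓ_appTop h', e]

theorem appTop_comp_apply {A B C : Scheme.{u}} (a : A ⟶ B) (b : B ⟶ C) (x : Γ(C, ⊤)) :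
    (a ≫ b).appTop.hom x = a.appTop.hom (b.appTop.hom x) := by
  rw [Scheme.Hom.comp_appTop]; rfl

variable {Z S : Scheme.{u}} (g : Z ⟶ S) (f : X ⟶ S) [IsAffine Z] [IsAffine X] [IsAffine S]
  [Algebra Γ(S, ⊤) Γ(Z, ⊤)] (hg : algebraMap Γ(S, ⊤) Γ(Z, ⊤) = g.appTop.hom)
  {ι : Type u} [Fintype ι] (β : Module.Basis ι Γ(S, ⊤) Γ(Z, ⊤))

/-- Expansion in the basis on a base change. -/
noncomputable def θ {T : Scheme.{u}} (h : T ⟶ S) (a : ι → Γ(T, ⊤)) : Γ(pullback h g, ⊤) :=
  ∑ i, (pullback.fst h g).appTop.hom (a i) * (pullback.snd h g).appTop.hom (β i)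

omit [IsAffine Z] [IsAffine X] [IsAffine S] in
include hg in
theorem θ_repr {T : Scheme.{u}} (h : T ⟶ S) (z : Γ(Z, ⊤)) :
    θ g β h (fun i => h.appTop.hom (β.repr z i)) = (pullback.snd h g).appTop.hom z := by
  conv_rhs => rw [← β.sum_repr z, map_sum]
  refine Finset.sum_congr rfl fun i _ => ?_
  rw [Algebra.smul_def, map_mul, hg, ← appTop_comp_apply, ← appTop_comp_apply, pullback.condition]

omit [IsAffine Z] [IsAffine X] [IsAffine S] in
include hg in
theorem θ_mul {T : Scheme.{u}} (h : T ⟶ S) (a a' : ι → Γ(T, ⊤)) :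
    θ g β h a * θ g β h a' =
      θ g β h (fun k => ∑ i, ∑ j, h.appTop.hom (β.repr (β i * β j) k) * a i * a' j) := by
  set p := (pullback.fst h g).appTop.hom
  set q := (pullback.snd h g).appTop.hom
  have hq : ∀ i j, q (β i) * q (β j) = ∑ k, p (h.appTop.hom (β.repr (β i * β j) k)) * q (β k) := fun i j => by
    rw [← map_mul]
    exact (θ_repr g hg β h (β i * β j)).symm
  have hl : θ g β h a * θ g β h a' = ∑ i, ∑ j, p (a i) * p (a' j) * (q (β i) * q (β j)) := by
    rw [θ, θ, Finset.sum_mul_sum]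
    exact Finset.sum_congr rfl fun i _ => Finset.sum_congr rfl fun j _ => by ring
  rw [hl]
  simp only [θ, hq, Finset.mul_sum, map_sum, map_mul, Finset.sum_mul]
  rw [Finset.sum_comm (s := Finset.univ (α := ι))]
  rw [Finset.sum_comm]
  conv_lhs => arg 2; ext i; rw [Finset.sum_comm]
  rw [Finset.sum_comm]
  exact Finset.sum_congr rfl fun k _ => Finset.sum_congr rfl fun i _ => Finset.sum_congr rfl fun j _ => by ring

omit [IsAffine Z] [IsAffine X] [IsAffine S] in
theorem θ_add {T : Scheme.{u}} (h : T ⟶ S) (a a' : ι → Γ(T, ⊤)) :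
    θ g β h (a + a') = θ g β h a + θ g β h a' := by
  simp [θ, add_mul, Finset.sum_add_distrib]

include hg in
theorem θ_bijective {T : Scheme.{u}} [IsAffine T] (h : T ⟶ S) : Function.Bijective (θ g β h) := by
  let R := Γ(S, ⊤)
  letI algT : Algebra R Γ(T, ⊤) := h.appTop.hom.toAlgebra
  classical
  have h₁ : IsPushout h.appTop g.appTop (pullback.fst h g).appTop (pullback.snd h g).appTop :=
    isPushout_appTop_of_isPullback (IsPullback.of_hasPullback h g)
  have h₂ : IsPushout h.appTop g.appTop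
      (CommRingCat.ofHom (S := Γ(T, ⊤) ⊗[R] Γ(Z, ⊤)) Algebra.TensorProduct.includeLeftRingHom)
      (CommRingCat.ofHom (S := Γ(T, ⊤) ⊗[R] Γ(Z, ⊤)) Algebra.TensorProduct.includeRight.toRingHom) := by
    have := CommRingCat.isPushout_tensorProduct R Γ(T, ⊤) Γ(Z, ⊤)
    rw [hg] at this
    exact this
  let e := (h₂.isoIsPushout _ _ h₁).commRingCatIsoToRingEquiv
  have hl : ∀ x, e (x ⊗ₜ 1) = (pullback.fst h g).appTop.hom x := fun x =>
    congr($(h₂.inl_isoIsPushout_hom _ _ h₁).hom x)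
  have hr : ∀ x, e (1 ⊗ₜ x) = (pullback.snd h g).appTop.hom x := fun x =>
    congr($(h₂.inr_isoIsPushout_hom _ _ h₁).hom x)
  have key : θ g β h = e ∘ (TensorProduct.equivFinsuppOfBasisRight β).symm ∘ Finsupp.equivFunOnFinite.symm := by
    funext a
    simp only [Function.comp_apply]
    rw [← LinearEquiv.coe_coe, TensorProduct.equivFinsuppOfBasisRight_symm, Finsupp.lsum_apply, Finsupp.sum_fintype _ _
      (fun i => by simp), map_sum]
    refine Finset.sum_congr rfl fun i _ => ?_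
    rw [← hl, ← hr, ← map_mul, Algebra.TensorProduct.tmul_mul_tmul, mul_one, one_mul]
    rfl
  rw [key]
  exact e.bijective.comp ((LinearEquiv.bijective _).comp (Equiv.bijective _))

/-- Generators of the coordinate ring of `Mor_S(Z, X)`. -/
abbrev P₀ (X S : Scheme.{u}) (ι : Type u) := MvPolynomial (Γ(X, ⊤) × ι) Γ(S, ⊤)

/-- The relations of the coordinate ring of `Mor_S(Z, X)`. -/
noncomputable def rel : Ideal (P₀ X S ι) :=
  Ideal.span ((Set.range fun x : Γ(X, ⊤) × Γ(X, ⊤) × ι =>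
      MvPolynomial.X (x.1 + x.2.1, x.2.2) - MvPolynomial.X (x.1, x.2.2) - MvPolynomial.X (x.2.1, x.2.2)) ∪
    (Set.range fun x : Γ(X, ⊤) × Γ(X, ⊤) × ι => MvPolynomial.X (x.1 * x.2.1, x.2.2) -
      ∑ i, ∑ j, MvPolynomial.C (β.repr (β i * β j) x.2.2) * MvPolynomial.X (x.1, i) * MvPolynomial.X (x.2.1, j)) ∪
    (Set.range fun x : Γ(S, ⊤) × ι => MvPolynomial.X (f.appTop.hom x.1, x.2) -
      MvPolynomial.C (β.repr (g.appTop.hom x.1) x.2)))

/-- The coordinate ring of `Mor_S(Z, X)`. -/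
abbrev coordRing := P₀ X S ι ⧸ rel g f β

/-- `Mor_S(Z, X)`. -/
noncomputable def obj : Over S :=
  Over.mk (ofΓ (Y := Spec (CommRingCat.of (coordRing g f β)))
    (CommRingCat.ofHom (algebraMap Γ(S, ⊤) (coordRing g f β)) ≫ (Scheme.ΓSpecIso _).inv))

/-- The universal coefficients. -/
noncomputable def coeff (c : Γ(X, ⊤)) (i : ι) : Γ((obj g f β).left, ⊤) :=
  (Scheme.ΓSpecIso (CommRingCat.of (coordRing g f β))).inv.hom (Ideal.Quotient.mk _ (MvPolynomial.X (c, i)))

theorem hom_appTop (r : Γ(S, ⊤)) : (obj g f β).hom.appTop.hom r =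
    (Scheme.ΓSpecIso (CommRingCat.of (coordRing g f β))).inv.hom (Ideal.Quotient.mk _ (MvPolynomial.C r)) := by
  show (ofΓ _).appTop.hom r = _
  rw [appTop_ofΓ]
  rfl

include hg in
/-- The universal ring map. -/
theorem exists_universal : ∃ ψ : Γ(X, ⊤) ⟶ Γ(pullback (obj g f β).hom g, ⊤),
    (∀ c, ψ.hom c = θ g β (obj g f β).hom (coeff g f β c)) ∧
      f.appTop ≫ ψ = g.appTop ≫ (pullback.snd (obj g f β).hom g).appTop := by
  let σ : P₀ X S ι →+* Γ((obj g f β).left, ⊤) :=
    (Scheme.ΓSpecIso (CommRingCat.of (coordRing g f β))).inv.hom.comp (Ideal.Quotient.mk _)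
  have hσX : ∀ c i, σ (MvPolynomial.X (c, i)) = coeff g f β c i := fun c i => rfl
  have hσC : ∀ r, σ (MvPolynomial.C r) = (obj g f β).hom.appTop.hom r := fun r => (hom_appTop g f β r).symm
  have hrel : ∀ x ∈ rel g f β, σ x = 0 := fun x hx => by
    show (Scheme.ΓSpecIso (CommRingCat.of (coordRing g f β))).inv.hom (Ideal.Quotient.mk (rel g f β) x) = 0
    rw [Ideal.Quotient.eq_zero_iff_mem.2 hx, map_zero]
  have hadd : ∀ c d k, coeff g f β (c + d) k = coeff g f β c k + coeff g f β d k := fun c d k => by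
    have h := hrel _ (Ideal.subset_span (Or.inl (Or.inl ⟨(c, d, k), rfl⟩)))
    rw [map_sub, map_sub, hσX, hσX, hσX, sub_eq_zero, sub_eq_iff_eq_add'] at h
    exact h
  have hmul : ∀ c d k, coeff g f β (c * d) k = ∑ i, ∑ j,
      (obj g f β).hom.appTop.hom (β.repr (β i * β j) k) * coeff g f β c i * coeff g f β d j := fun c d k => by
    have h := hrel _ (Ideal.subset_span (Or.inl (Or.inr ⟨(c, d, k), rfl⟩)))
    rw [map_sub, hσX, sub_eq_zero] at h
    simpa only [map_sum, map_mul, hσC, hσX] using h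
  have hsc : ∀ r, θ g β (obj g f β).hom (coeff g f β (f.appTop.hom r)) =
      (pullback.snd (obj g f β).hom g).appTop.hom (g.appTop.hom r) := fun r => by
    rw [← θ_repr g hg β]
    congr 1
    funext k
    have h := hrel _ (Ideal.subset_span (Or.inr ⟨(r, k), rfl⟩))
    rw [map_sub, hσX, hσC, sub_eq_zero] at h
    exact h
  let F : Γ(X, ⊤) →+ Γ(pullback (obj g f β).hom g, ⊤) :=
    AddMonoidHom.mk' (fun c => θ g β (obj g f β).hom (coeff g f β c)) fun c d => by
      rw [← θ_add]; exact congrArg _ (funext fun k => hadd c d k)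
  refine ⟨CommRingCat.ofHom
    { F with
      map_one' := ?_
      map_mul' := fun c d => ?_ }, fun c => rfl, CommRingCat.hom_ext (RingHom.ext fun r => hsc r)⟩
  · show θ g β _ _ = 1
    simpa using hsc 1
  · show θ g β _ _ = θ g β _ _ * θ g β _ _
    rw [θ_mul g hg β]
    exact congrArg _ (funext fun k => hmul c d k)

omit [IsAffine Z] [IsAffine X] [IsAffine S] in
theorem θ_natural {T T' : Over S} (φ : T' ⟶ T) (a : ι → Γ(T.left, ⊤)) :
    ((Over.pullback g).map φ).left.appTop.hom (θ g β T.hom a) = θ g β T'.hom (fun i => φ.left.appTop.hom (a i)) := by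
  have hF : ((Over.pullback g).map φ).left ≫ pullback.fst T.hom g = pullback.fst T'.hom g ≫ φ.left :=
    pullback.lift_fst _ _ _
  have hS : ((Over.pullback g).map φ).left ≫ pullback.snd T.hom g = pullback.snd T'.hom g :=
    pullback.lift_snd _ _ _
  rw [θ, θ, map_sum]
  refine Finset.sum_congr rfl fun i _ => ?_
  rw [map_mul, ← appTop_comp_apply, ← appTop_comp_apply, ← appTop_comp_apply]
  congr 1
  · exact congrArg (fun m => (Scheme.Hom.appTop m).hom (a i)) hF
  · exact congrArg (fun m => (Scheme.Hom.appTop m).hom (β i)) hS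

set_option backward.isDefEq.respectTransparency false in
set_option backward.isDefEq.respectTransparency.types false in
include hg β in
theorem exists_affine_representable :
    ∃ W : Over S, IsAffine W.left ∧ Nonempty ((Flatn.morS g f).RepresentableBy W) := by
  obtain ⟨ψ, hψ, hψS⟩ := exists_universal g f hg β
  let W := obj g f β
  have haff : IsAffine W.left := inferInstanceAs (IsAffine (Spec _))
  refine ⟨W, haff, ?_⟩
  haveI : IsAffine (Over.mk f).left := ‹IsAffine X›
  let η : (Flatn.morS g f).obj (op W) := Over.homMk (ofΓ (X := X) ψ) (by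
    show ofΓ ψ ≫ f = pullback.snd W.hom g ≫ g
    refine hom_ext_appTop ?_
    rw [Scheme.Hom.comp_appTop, Scheme.Hom.comp_appTop, appTop_ofΓ]
    exact hψS)
  have hcls : ∀ (T : Over S) (φ : T ⟶ W) (c : Γ(X, ⊤)),
      (cls g f W η T φ).left.appTop.hom c = θ g β T.hom (fun i => φ.left.appTop.hom (coeff g f β c i)) := by
    intro T φ c
    rw [show cls g f W η T φ = (Over.map g).map ((Over.pullback g).map φ) ≫ η from rfl]
    show (((Over.pullback g).map φ).left ≫ ofΓ (X := X) ψ).appTop.hom c = _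
    rw [appTop_comp_apply, appTop_ofΓ]
    exact (congrArg _ (hψ c)).trans (θ_natural g β φ _)
  refine nonempty_representableBy g f W η fun T hT => ⟨fun φ φ' h => ?_, fun b => ?_⟩
  · haveI := hT
    have hb := fun c => (hcls T φ c).symm.trans ((congrArg (fun b => CommRingCat.Hom.hom (Scheme.Hom.appTop
      (CommaMorphism.left b)) c) h).trans (hcls T φ' c))
    have hcoef : ∀ c i, φ.left.appTop.hom (coeff g f β c i) = φ'.left.appTop.hom (coeff g f β c i) := fun c i =>
      congrFun ((θ_bijective g hg β T.hom).1 (hb c)) i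
    have hR : ∀ (χ : T ⟶ W) (r : Γ(S, ⊤)), χ.left.appTop.hom (W.hom.appTop.hom r) = T.hom.appTop.hom r := fun χ r => by
      rw [← appTop_comp_apply]
      exact congrArg (fun m => (Scheme.Hom.appTop m).hom r) (Over.w χ)
    refine Over.OverMorphism.ext (hom_ext_appTop ?_)
    rw [← cancel_epi (Scheme.ΓSpecIso (CommRingCat.of (coordRing g f β))).inv]
    refine CommRingCat.hom_ext (Ideal.Quotient.ringHom_ext (MvPolynomial.ringHom_ext (fun r => ?_) fun x => hcoef x.1 x.2))
    have h1 := hR φ r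
    have h2 := hR φ' r
    rw [hom_appTop] at h1 h2
    exact h1.trans h2.symm
  · haveI := hT
    let b₁ : (Over.map g).obj ((Over.pullback g).obj T) ⟶ Over.mk f := b
    set P := pullback T.hom g
    let χ : Γ(X, ⊤) →+* Γ(P, ⊤) := b₁.left.appTop.hom
    have hχS : ∀ r, χ (f.appTop.hom r) = (pullback.snd T.hom g).appTop.hom (g.appTop.hom r) := fun r => by
      have hb : b₁.left ≫ f = pullback.snd T.hom g ≫ g := Over.w b₁
      exact ((appTop_comp_apply b₁.left f r).symm.trans (congrArg (fun m => (Scheme.Hom.appTop m).hom r) hb)).trans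
        (appTop_comp_apply _ g r)
    choose a ha using fun c => (θ_bijective g hg β T.hom).2 (χ c)
    have inj := (θ_bijective g hg β T.hom).1
    let σ : P₀ X S ι →+* Γ(T.left, ⊤) := MvPolynomial.eval₂Hom T.hom.appTop.hom fun x => a x.1 x.2
    have hσ : ∀ x ∈ rel g f β, σ x = 0 := by
      intro x hx
      refine RingHom.mem_ker.1 ((Ideal.span_le.2 ?_ : rel g f β ≤ RingHom.ker σ) hx)
      rintro y ((⟨⟨c, d, k⟩, rfl⟩ | ⟨⟨c, d, k⟩, rfl⟩) | ⟨⟨r, k⟩, rfl⟩)
      · have : a (c + d) = a c + a d := inj (by rw [θ_add, ha, ha, ha, map_add])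
        simp [σ, this]
      · have : a (c * d) = fun k => ∑ i, ∑ j, T.hom.appTop.hom (β.repr (β i * β j) k) * a c i * a d j :=
          inj (by rw [← θ_mul g hg β, ha, ha, ha, map_mul])
        simp [σ, this]
      · have : a (f.appTop.hom r) = fun k => T.hom.appTop.hom (β.repr (g.appTop.hom r) k) :=
          inj (by rw [θ_repr g hg β, ha, hχS])
        simp [σ, this]
    let φ₀ : Γ(W.left, ⊤) ⟶ Γ(T.left, ⊤) :=
      (Scheme.ΓSpecIso (CommRingCat.of (coordRing g f β))).hom ≫ CommRingCat.ofHom (Ideal.Quotient.lift _ σ hσ)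
    haveI := haff
    have hφ₀ : ∀ p, φ₀.hom ((Scheme.ΓSpecIso (CommRingCat.of (coordRing g f β))).inv.hom (Ideal.Quotient.mk _ p)) = σ p := fun p => by
      show Ideal.Quotient.lift _ σ hσ ((Scheme.ΓSpecIso (CommRingCat.of (coordRing g f β))).hom.hom _) = _
      erw [Iso.inv_hom_id_apply]
      rfl
    let φ : T ⟶ W := Over.homMk (ofΓ φ₀) (by
      refine hom_ext_appTop ?_
      rw [Scheme.Hom.comp_appTop, appTop_ofΓ]
      refine CommRingCat.hom_ext (RingHom.ext fun r => ?_)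
      show φ₀.hom (W.hom.appTop.hom r) = _
      rw [hom_appTop, hφ₀]
      simp [σ])
    refine ⟨φ, Over.OverMorphism.ext (hom_ext_appTop (CommRingCat.hom_ext (RingHom.ext fun c => ?_)))⟩
    rw [hcls]
    refine Eq.trans (congrArg _ (funext fun i => ?_)) (ha c)
    show (ofΓ φ₀).appTop.hom _ = _
    rw [appTop_ofΓ, coeff, hφ₀]
    simp [σ]

end Groth.Agent.H4Weil
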