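import Groth.Agent.H4Weil.Local
import Groth.Prelude.Def_Mor2
import Mathlib.AlgebraicGeometry.Morphisms.Finite
import Mathlib.AlgebraicGeometry.Restrict

/-!
# Charts of `Mor_S(Z, X)` as a functor on all schemes
-/

set_option autoImplicit false
set_option linter.style.haveILetI false
set_option backward.isDefEq.respectTransparency false
set_option backward.isDefEq.respectTransparency.types false

universe u

open CategoryTheory CategoryTheory.Limits AlgebraicGeometry Opposite TopologicalSpace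

namespace Groth.Agent.H4Weil

variable {X Z S : Scheme.{u}}

/-- A morphism `T ⟶ S` with a relative morphism `T ×_S Z ⟶ X`. -/
structure Pt (g : Z ⟶ S) (f : X ⟶ S) (T : Scheme.{u}) : Type u where
  h : T ⟶ S
  β : pullback h g ⟶ X
  w : β ≫ f = pullback.snd h g ≫ g

variable {g : Z ⟶ S} {f : X ⟶ S}

/-- The value of a point on a `T`-point of `Z`. -/
noncomputable def Pt.app {T Y : Scheme.{u}} (e : Pt g f T) (p : Y ⟶ T) (z : Y ⟶ Z) (hw : p ≫ e.h = z ≫ g) :
    Y ⟶ X :=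
  pullback.lift p z hw ≫ e.β

theorem Pt.app_congr {T Y : Scheme.{u}} {e e' : Pt g f T} (he : e = e') {p p' : Y ⟶ T} (hp : p = p')
    {z z' : Y ⟶ Z} (hz : z = z') (hw : p ≫ e.h = z ≫ g) (hw' : p' ≫ e'.h = z' ≫ g) :
    e.app p z hw = e'.app p' z' hw' := by
  subst he hp hz; rfl

theorem Pt.comp_app {T Y Y' : Scheme.{u}} (e : Pt g f T) (l : Y' ⟶ Y) (p : Y ⟶ T) (z : Y ⟶ Z)
    (hw : p ≫ e.h = z ≫ g) :
    l ≫ e.app p z hw = e.app (l ≫ p) (l ≫ z) (by rw [Category.assoc, hw, Category.assoc]) := by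
  rw [Pt.app, Pt.app, ← Category.assoc]
  congr 1
  apply pullback.hom_ext <;> simp

theorem Pt.app_comp_f {T Y : Scheme.{u}} (e : Pt g f T) (p : Y ⟶ T) (z : Y ⟶ Z) (hw : p ≫ e.h = z ≫ g) :
    e.app p z hw ≫ f = z ≫ g := by
  rw [Pt.app, Category.assoc, e.w, pullback.lift_snd_assoc]

theorem Pt.app_fst_snd {T : Scheme.{u}} (e : Pt g f T) :
    e.app (pullback.fst e.h g) (pullback.snd e.h g) pullback.condition = e.β := by
  rw [Pt.app, show pullback.lift (pullback.fst e.h g) (pullback.snd e.h g) pullback.condition = 𝟙 _ from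
    pullback.hom_ext (by simp) (by simp), Category.id_comp]

theorem Pt.ext' {T : Scheme.{u}} {e e' : Pt g f T} (hh : e.h = e'.h)
    (hβ : ∀ (Y : Scheme.{u}) (p : Y ⟶ T) (z : Y ⟶ Z) (hw : p ≫ e.h = z ≫ g) (hw' : p ≫ e'.h = z ≫ g),
      e.app p z hw = e'.app p z hw') : e = e' := by
  obtain ⟨h, β, w⟩ := e
  obtain ⟨h', β', w'⟩ := e'
  obtain rfl : h = h' := hh
  have key := hβ _ (pullback.fst h g) (pullback.snd h g) pullback.condition pullback.condition
  obtain rfl : β = β' :=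
    ((Pt.app_fst_snd ⟨h, β, w⟩).symm.trans key).trans (Pt.app_fst_snd ⟨h, β', w'⟩)
  rfl

/-- Restriction of points. -/
noncomputable def Pt.pull {T T' : Scheme.{u}} (v : T' ⟶ T) (e : Pt g f T) : Pt g f T' :=
  ⟨v ≫ e.h, e.app (pullback.fst _ g ≫ v) (pullback.snd _ g) (by rw [Category.assoc, pullback.condition]),
    e.app_comp_f _ _ _⟩

theorem Pt.app_pull {T T' Y : Scheme.{u}} (v : T' ⟶ T) (e : Pt g f T) (p : Y ⟶ T') (z : Y ⟶ Z)
    (hw : p ≫ (e.pull v).h = z ≫ g) :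
    (e.pull v).app p z hw = e.app (p ≫ v) z ((Category.assoc _ _ _).trans hw) := by
  show pullback.lift p z hw ≫ e.app _ _ _ = _
  rw [Pt.comp_app]
  exact Pt.app_congr rfl (pullback.lift_fst_assoc _ _ _ _) (pullback.lift_snd _ _ _) _ _

theorem Pt.pull_id {T : Scheme.{u}} (e : Pt g f T) : e.pull (𝟙 T) = e :=
  Pt.ext' (Category.id_comp _) fun Y p z hw hw' =>
    (Pt.app_pull _ _ _ _ _).trans (Pt.app_congr rfl (Category.comp_id _) rfl _ _)

theorem Pt.pull_comp {T T' T'' : Scheme.{u}} (v' : T'' ⟶ T') (v : T' ⟶ T) (e : Pt g f T) :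
    e.pull (v' ≫ v) = (e.pull v).pull v' :=
  Pt.ext' (Category.assoc _ _ _) fun Y p z hw hw' =>
    (Pt.app_pull _ _ _ _ _).trans (((Pt.app_congr rfl (Category.assoc _ _ _).symm rfl _ _).trans
      (Pt.app_pull v e (p ≫ v') z ((Category.assoc _ _ _).trans hw')).symm).trans (Pt.app_pull v' _ p z hw').symm)

/-- `Mor_S(Z, X)` on all schemes. -/
noncomputable def functor (g : Z ⟶ S) (f : X ⟶ S) : Scheme.{u}ᵒᵖ ⥤ Type u where
  obj T := Pt g f T.unop
  map v := ↾fun e => e.pull v.unop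
  map_id T := by ext e; exact e.pull_id
  map_comp v v' := by ext e; exact e.pull_comp _ _

/-- An affine chart of `Mor_S(Z, X)`. -/
structure Chart (g : Z ⟶ S) (f : X ⟶ S) : Type u where
  V : S.Opens
  U : X.Opens
  hUV : U ≤ f ⁻¹ᵁ V
  hex : ∃ W : Over (V : Scheme.{u}), IsAffine W.left ∧
    Nonempty ((Flatn.morS (g ∣_ V) (f.resLE V U hUV)).RepresentableBy W)

variable (c : Chart g f)

/-- The scheme of a chart. -/
noncomputable def Chart.W : Over (c.V : Scheme.{u}) := c.hex.choose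

/-- The representation of a chart. -/
noncomputable def Chart.rep : (Flatn.morS (g ∣_ c.V) (f.resLE c.V c.U c.hUV)).RepresentableBy c.W :=
  c.hex.choose_spec.2.some

theorem Chart.isAffine : IsAffine c.W.left := c.hex.choose_spec.1

/-- The universal relative morphism of a chart. -/
noncomputable def Chart.η : pullback c.W.hom (g ∣_ c.V) ⟶ (c.U : Scheme.{u}) :=
  (show (Over.map (g ∣_ c.V)).obj ((Over.pullback (g ∣_ c.V)).obj c.W) ⟶ Over.mk (f.resLE c.V c.U c.hUV)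
    from c.rep.homEquiv (𝟙 c.W)).left

theorem Chart.η_w : c.η ≫ f.resLE c.V c.U c.hUV = pullback.snd c.W.hom (g ∣_ c.V) ≫ (g ∣_ c.V) :=
  Over.w (show (Over.map (g ∣_ c.V)).obj ((Over.pullback (g ∣_ c.V)).obj c.W) ⟶ Over.mk (f.resLE c.V c.U c.hUV)
    from c.rep.homEquiv (𝟙 c.W))

theorem Chart.homEquiv_left {T : Over (c.V : Scheme.{u})} (φ : T ⟶ c.W) :
    (show (Over.map (g ∣_ c.V)).obj ((Over.pullback (g ∣_ c.V)).obj T) ⟶ Over.mk (f.resLE c.V c.U c.hUV)
      from c.rep.homEquiv φ).left = ((Over.pullback (g ∣_ c.V)).map φ).left ≫ c.η := by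
  have h := c.rep.homEquiv_comp φ (𝟙 c.W)
  rw [Category.comp_id] at h
  rw [h]
  rfl

/-- Lifting into the part of `Z` over the chart. -/
noncomputable def Chart.zlift {Y : Scheme.{u}} (a : Y ⟶ (c.V : Scheme.{u})) (z : Y ⟶ Z)
    (hw : a ≫ c.V.ι = z ≫ g) : Y ⟶ (g ⁻¹ᵁ c.V : Scheme.{u}) :=
  (isPullback_morphismRestrict g c.V).lift a z hw

theorem Chart.zlift_restrict {Y : Scheme.{u}} (a : Y ⟶ (c.V : Scheme.{u})) (z : Y ⟶ Z)
    (hw : a ≫ c.V.ι = z ≫ g) : c.zlift a z hw ≫ (g ∣_ c.V) = a :=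
  (isPullback_morphismRestrict g c.V).lift_fst _ _ _

theorem Chart.zlift_ι {Y : Scheme.{u}} (a : Y ⟶ (c.V : Scheme.{u})) (z : Y ⟶ Z)
    (hw : a ≫ c.V.ι = z ≫ g) : c.zlift a z hw ≫ (g ⁻¹ᵁ c.V).ι = z :=
  (isPullback_morphismRestrict g c.V).lift_snd _ _ _

theorem Chart.zlift_unique {Y : Scheme.{u}} (l : Y ⟶ (g ⁻¹ᵁ c.V : Scheme.{u})) (a : Y ⟶ (c.V : Scheme.{u}))
    (z : Y ⟶ Z) (hw : a ≫ c.V.ι = z ≫ g) (h : l ≫ (g ⁻¹ᵁ c.V).ι = z) : l = c.zlift a z hw :=
  (cancel_mono (g ⁻¹ᵁ c.V).ι).1 (h.trans (c.zlift_ι a z hw).symm)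

/-- The universal point of a chart. -/
noncomputable def Chart.univ : Pt g f c.W.left where
  h := c.W.hom ≫ c.V.ι
  β := pullback.lift (pullback.fst _ g) (c.zlift (pullback.fst _ g ≫ c.W.hom) (pullback.snd _ g)
    ((Category.assoc _ _ _).trans pullback.condition)) (c.zlift_restrict _ _ _).symm ≫ c.η ≫ c.U.ι
  w := by
    have e₁ : c.η ≫ c.U.ι ≫ f = pullback.snd c.W.hom (g ∣_ c.V) ≫ (g ∣_ c.V) ≫ c.V.ι := by
      rw [← Scheme.Hom.resLE_comp_ι f c.hUV, reassoc_of% c.η_w]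
    refine (Category.assoc _ _ _).trans ?_
    rw [Category.assoc c.η, e₁, pullback.lift_snd_assoc, ← Category.assoc, c.zlift_restrict]
    exact (Category.assoc _ _ _).trans pullback.condition

theorem Chart.app_univ {Y : Scheme.{u}} (p : Y ⟶ c.W.left) (z : Y ⟶ Z) (hw : p ≫ c.univ.h = z ≫ g) :
    c.univ.app p z hw = pullback.lift p (c.zlift (p ≫ c.W.hom) z ((Category.assoc _ _ _).trans hw))
      (c.zlift_restrict _ _ _).symm ≫ c.η ≫ c.U.ι := by
  show pullback.lift (f := c.W.hom ≫ c.V.ι) (g := g) p z hw ≫ _ ≫ c.η ≫ c.U.ι = _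
  rw [← Category.assoc]
  congr 1
  apply pullback.hom_ext
  · simp
  · simp only [Category.assoc, pullback.lift_snd]
    refine c.zlift_unique _ _ _ _ ?_
    rw [Category.assoc, c.zlift_ι, pullback.lift_snd]

/-- Comparison of the chart's classification with the universal point. -/
theorem Chart.app_univ_eq {T Y : Scheme.{u}} (h' : T ⟶ (c.V : Scheme.{u})) (φ : Over.mk h' ⟶ c.W) (p : Y ⟶ T)
    (z : Y ⟶ Z) (hw : p ≫ h' ≫ c.V.ι = z ≫ g)
    (hw' : (p ≫ φ.left) ≫ c.univ.h = z ≫ g) :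
    c.univ.app (p ≫ φ.left) z hw' =
      pullback.lift p (c.zlift (p ≫ h') z ((Category.assoc _ _ _).trans hw)) (c.zlift_restrict _ _ _).symm ≫
      (show (Over.map (g ∣_ c.V)).obj ((Over.pullback (g ∣_ c.V)).obj (Over.mk h')) ⟶
        Over.mk (f.resLE c.V c.U c.hUV) from c.rep.homEquiv φ).left ≫ c.U.ι := by
  rw [c.homEquiv_left, c.app_univ]
  simp only [← Category.assoc]
  congr 2
  apply pullback.hom_ext
  · rw [pullback.lift_fst, Category.assoc,
      show ((Over.pullback (g ∣_ c.V)).map φ).left ≫ pullback.fst c.W.hom _ = pullback.fst h' _ ≫ φ.left from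
        pullback.lift_fst _ _ _]
    exact (pullback.lift_fst_assoc _ _ _ _).symm
  · refine (pullback.lift_snd _ _ _).trans ?_
    refine Eq.trans ?_ ((Category.assoc _ _ _).trans (congrArg (CategoryStruct.comp _)
      (show ((Over.pullback (g ∣_ c.V)).map φ).left ≫ pullback.snd c.W.hom _ = pullback.snd h' _ from
        pullback.lift_snd _ _ _))).symm
    refine Eq.trans ?_ (pullback.lift_snd _ _ _).symm
    exact (c.zlift_unique _ _ _ _ (c.zlift_ι _ _ _)).symm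

variable [IsFinite g]

/-- The locus where a point lies in a chart. -/
noncomputable def Chart.Loc {T : Scheme.{u}} (e : Pt g f T) : T.Opens :=
  e.h ⁻¹ᵁ c.V ⊓ ⟨(pullback.fst e.h g '' (e.β ⁻¹ᵁ c.U : Set _)ᶜ)ᶜ,
    ((pullback.fst e.h g).isClosedMap _ (e.β ⁻¹ᵁ c.U).isOpen.isClosed_compl).isOpen_compl⟩

theorem Chart.mem_loc {T : Scheme.{u}} (e : Pt g f T) (t : T) :
    t ∈ c.Loc e ↔ e.h t ∈ c.V ∧ ∀ q, pullback.fst e.h g q = t → e.β q ∈ c.U := by
  refine and_congr Iff.rfl ⟨fun h q hq => by_contra fun hn => h ⟨q, hn, hq⟩, ?_⟩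
  rintro h ⟨q, hn, hq⟩
  exact hn (h q hq)

theorem isPullback_pull {T T' : Scheme.{u}} (v : T' ⟶ T) (h : T ⟶ S) :
    IsPullback (pullback.lift (f := h) (g := g) (pullback.fst (v ≫ h) g ≫ v) (pullback.snd (v ≫ h) g)
      (by rw [Category.assoc, pullback.condition])) (pullback.fst (v ≫ h) g) (pullback.fst h g) v := by
  refine IsPullback.of_right ?_ (pullback.lift_fst _ _ _) (IsPullback.of_hasPullback h g).flip
  rw [pullback.lift_snd]
  exact (IsPullback.of_hasPullback (v ≫ h) g).flip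

theorem Chart.loc_pull {T T' : Scheme.{u}} (v : T' ⟶ T) (e : Pt g f T) :
    c.Loc (e.pull v) = v ⁻¹ᵁ c.Loc e := by
  ext t
  show t ∈ c.Loc (e.pull v) ↔ v t ∈ c.Loc e
  rw [c.mem_loc, c.mem_loc]
  refine and_congr Iff.rfl ⟨fun h q hq => ?_, fun h q hq => h _ ?_⟩
  · obtain ⟨w, hw, hwt⟩ := Scheme.exists_preimage_of_isPullback (isPullback_pull (g := g) v e.h) q t hq
    have := h w hwt
    rw [← hw]
    exact this
  · show (pullback.lift (pullback.fst (v ≫ e.h) g ≫ v) (pullback.snd (v ≫ e.h) g) _ ≫ pullback.fst e.h g) q = v t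
    rw [pullback.lift_fst, Scheme.Hom.comp_apply]
    exact congrArg _ hq

theorem Chart.loc_univ : c.Loc c.univ = ⊤ := by
  refine top_le_iff.1 fun t _ => (c.mem_loc _ t).2 ⟨?_, fun q _ => ?_⟩
  · show c.V.ι (c.W.hom t) ∈ c.V
    exact (c.W.hom t : c.V.toScheme).2
  · show c.U.ι (c.η _) ∈ c.U
    exact (c.η _ : c.U.toScheme).2

/-- Universal property of a chart. -/
theorem Chart.existsUnique_pull_univ {T : Scheme.{u}} (e : Pt g f T) (he : c.Loc e = ⊤) :
    ∃! m : T ⟶ c.W.left, c.univ.pull m = e := by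
  have hV : Set.range e.h ⊆ Set.range c.V.ι := by
    rw [Scheme.Opens.range_ι]
    rintro _ ⟨t, rfl⟩
    exact ((c.mem_loc e t).1 (he.ge (Set.mem_univ t))).1
  have hU : Set.range e.β ⊆ Set.range c.U.ι := by
    rw [Scheme.Opens.range_ι]
    rintro _ ⟨q, rfl⟩
    exact ((c.mem_loc e _).1 (he.ge (Set.mem_univ _))).2 q rfl
  let h' := IsOpenImmersion.lift c.V.ι e.h hV
  have hh' : h' ≫ c.V.ι = e.h := IsOpenImmersion.lift_fac _ _ _
  let Q := pullback h' (g ∣_ c.V)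
  have hw₀ : pullback.fst h' (g ∣_ c.V) ≫ e.h = (pullback.snd h' (g ∣_ c.V) ≫ (g ⁻¹ᵁ c.V).ι) ≫ g := by
    rw [← hh', pullback.condition_assoc, Category.assoc, morphismRestrict_ι]
  let b₀ : Q ⟶ X := e.app (pullback.fst h' (g ∣_ c.V)) (pullback.snd h' (g ∣_ c.V) ≫ (g ⁻¹ᵁ c.V).ι) hw₀
  have hb₀ : Set.range b₀ ⊆ Set.range c.U.ι := by
    rintro _ ⟨q, rfl⟩
    exact hU ⟨_, rfl⟩
  let b₁ : Q ⟶ (c.U : Scheme.{u}) := IsOpenImmersion.lift c.U.ι b₀ hb₀
  have hb₁ : b₁ ≫ c.U.ι = b₀ := IsOpenImmersion.lift_fac _ _ _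
  let b : (Over.map (g ∣_ c.V)).obj ((Over.pullback (g ∣_ c.V)).obj (Over.mk h')) ⟶
      Over.mk (f.resLE c.V c.U c.hUV) := Over.homMk b₁ (by
    show b₁ ≫ f.resLE c.V c.U c.hUV = pullback.snd h' (g ∣_ c.V) ≫ (g ∣_ c.V)
    rw [← cancel_mono c.V.ι, Category.assoc, Scheme.Hom.resLE_comp_ι, ← Category.assoc, hb₁, e.app_comp_f,
      Category.assoc, Category.assoc, morphismRestrict_ι])
  let φ : Over.mk h' ⟶ c.W := c.rep.homEquiv.symm b
  have key : ∀ (ψ : Over.mk h' ⟶ c.W), (c.univ.pull ψ.left = e ↔ ψ = φ) := by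
    intro ψ
    have hψ : ψ.left ≫ c.W.hom = h' := Over.w ψ
    constructor
    · intro H
      refine c.rep.homEquiv.injective (Eq.trans ?_ (c.rep.homEquiv.apply_symm_apply b).symm)
      refine Over.OverMorphism.ext ((cancel_mono c.U.ι).1 (Eq.trans ?_ hb₁.symm))
      have hwQ : pullback.fst h' (g ∣_ c.V) ≫ (c.univ.pull ψ.left).h =
          (pullback.snd h' (g ∣_ c.V) ≫ (g ⁻¹ᵁ c.V).ι) ≫ g := by rw [H]; exact hw₀
      have h1 := Pt.app_congr H (rfl : pullback.fst h' (g ∣_ c.V) = _)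
        (rfl : pullback.snd h' (g ∣_ c.V) ≫ (g ⁻¹ᵁ c.V).ι = _) hwQ hw₀
      rw [Pt.app_pull, c.app_univ_eq h' ψ _ _ (by rw [hh']; exact hw₀)] at h1
      refine Eq.trans ?_ h1
      rw [← Category.assoc]
      refine congrArg (· ≫ c.U.ι) ?_
      refine Eq.trans (Category.id_comp _).symm (congrArg (· ≫ _) ?_)
      apply pullback.hom_ext
      · exact (Category.id_comp _).trans (pullback.lift_fst _ _ _).symm
      · refine Eq.trans ?_ (pullback.lift_snd _ _ _).symm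
        exact (Category.id_comp _).trans (c.zlift_unique _ _ _ _ rfl)
    · rintro rfl
      have hh : (c.univ.pull φ.left).h = e.h := by
        show φ.left ≫ c.W.hom ≫ c.V.ι = e.h
        rw [← Category.assoc, hψ, hh']
      refine Pt.ext' hh fun Y p z hw hw' => ?_
      rw [Pt.app_pull, c.app_univ_eq h' φ p z (by rw [hh']; exact hw'),
        show (show (Over.map (g ∣_ c.V)).obj ((Over.pullback (g ∣_ c.V)).obj (Over.mk h')) ⟶
          Over.mk (f.resLE c.V c.U c.hUV) from c.rep.homEquiv φ) = b from c.rep.homEquiv.apply_symm_apply b]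
      show _ ≫ b₁ ≫ c.U.ι = _
      rw [hb₁, e.comp_app]
      exact Pt.app_congr rfl (pullback.lift_fst _ _ _)
        ((pullback.lift_snd_assoc _ _ _ _).trans (c.zlift_ι _ _ _)) _ _
  refine ⟨φ.left, (key φ).2 rfl, fun m hm => ?_⟩
  have hmh : m ≫ c.W.hom = h' := (cancel_mono c.V.ι).1 (by
    rw [hh', Category.assoc]
    exact congrArg Pt.h hm)
  exact congrArg CommaMorphism.left ((key (Over.homMk m hmh)).1 hm)

end Groth.Agent.H4Weil
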