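import Groth.Agent.H4Weil.Glue
import Groth.Agent.H4Weil.Affine
import Groth.Agent.GrpdLib.InvOpen
import Mathlib

/-!
# The charts of `Mor_S(Z, X)` cover
-/

set_option autoImplicit false
set_option linter.style.haveILetI false
set_option backward.isDefEq.respectTransparency false
set_option backward.isDefEq.respectTransparency.types false

universe u

open CategoryTheory CategoryTheory.Limits AlgebraicGeometry Opposite TopologicalSpace TensorProduct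

namespace Groth.Agent.H4Weil

/-- A finite flat finitely presented algebra is free near each prime. -/
theorem exists_free_away {A B : Type u} [CommRing A] [CommRing B] [Algebra A B] [Module.Finite A B]
    [Module.Flat A B] [Algebra.FinitePresentation A B] (P : PrimeSpectrum A) :
    ∃ r ∉ P.asIdeal, Module.Free (Localization.Away r) (Localization.Away r ⊗[A] B) := by
  haveI : Module.FinitePresentation A B := Module.FinitePresentation.of_finite_of_finitePresentation A B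
  haveI : Module.Free (Localization.AtPrime P.asIdeal) (LocalizedModule P.asIdeal.primeCompl B) :=
    Module.free_of_flat_of_isLocalRing
  obtain ⟨r, hr, hfree, -⟩ := Module.FinitePresentation.exists_free_localizedModule_powers
    P.asIdeal.primeCompl (LocalizedModule.mkLinearMap P.asIdeal.primeCompl B) (Localization.AtPrime P.asIdeal)
  refine ⟨r, hr, ?_⟩
  haveI := hfree
  exact Module.Free.of_equiv (LocalizedModule.equivTensorProduct (.powers r) B)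

variable {X Z S : Scheme.{u}} {g : Z ⟶ S}

/-- A finite locally free morphism has free sections over a neighbourhood basis. -/
theorem exists_affine_free (hg : Mor2.IsFinLocFree g) (s : S) :
    ∃ V : S.Opens, IsAffineOpen V ∧ s ∈ V ∧
      letI := (g.app V).hom.toAlgebra
      Module.Free Γ(S, V) Γ(Z, g ⁻¹ᵁ V) := by
  obtain ⟨h1, h2, h3⟩ := hg
  obtain ⟨V₀, hV₀, hs, -⟩ := exists_isAffineOpen_mem_and_subset (x := s) (U := (⊤ : S.Opens)) trivial
  letI alg₀ : Algebra Γ(S, V₀) Γ(Z, g ⁻¹ᵁ V₀) := (g.app V₀).hom.toAlgebra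
  haveI : Module.Finite Γ(S, V₀) Γ(Z, g ⁻¹ᵁ V₀) := IsFinite.finite_app g V₀ hV₀
  haveI : Module.Flat Γ(S, V₀) Γ(Z, g ⁻¹ᵁ V₀) := by
    have h' : (g.app V₀).hom.Flat := by
      rw [Scheme.Hom.app_eq_appLE]; exact g.flat_appLE hV₀ (hV₀.preimage g) le_rfl
    exact h'
  haveI : Algebra.FinitePresentation Γ(S, V₀) Γ(Z, g ⁻¹ᵁ V₀) := by
    have h' : (g.app V₀).hom.FinitePresentation := by
      rw [Scheme.Hom.app_eq_appLE]; exact g.finitePresentation_appLE hV₀ (hV₀.preimage g) le_rfl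
    exact h'
  obtain ⟨r, hr, hfree⟩ := exists_free_away (B := Γ(Z, g ⁻¹ᵁ V₀)) (hV₀.primeIdealOf ⟨s, hs⟩)
  let D := S.basicOpen r
  refine ⟨D, hV₀.basicOpen r, ?_, ?_⟩
  · rw [show s = hV₀.fromSpec (hV₀.primeIdealOf ⟨s, hs⟩) from (hV₀.fromSpec_primeIdealOf ⟨s, hs⟩).symm]
    show hV₀.primeIdealOf ⟨s, hs⟩ ∈ hV₀.fromSpec ⁻¹ᵁ D
    rw [hV₀.fromSpec_preimage_basicOpen]
    exact hr
  have e : D ≤ (𝟙 S) ⁻¹ᵁ V₀ := S.basicOpen_le r
  have e' : g ⁻¹ᵁ D ≤ (𝟙 Z) ⁻¹ᵁ g ⁻¹ᵁ V₀ := g.preimage_mono e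
  have H : IsPullback (𝟙 Z) g g (𝟙 S) := IsPullback.of_horiz_isIso ⟨by simp⟩
  have hiso := isIso_pushoutSection_of_isAffineOpen H (US := V₀) (UT := D) (UX := g ⁻¹ᵁ V₀) (UY := g ⁻¹ᵁ D)
    e le_rfl (le_antisymm (le_inf e' le_rfl) inf_le_right) hV₀ (hV₀.basicOpen r) (hV₀.preimage g)
  rw [isIso_pushoutSection_iff] at hiso
  have hpo : IsPushout (g.app V₀) ((𝟙 S : S ⟶ S).appLE V₀ D e) ((𝟙 Z : Z ⟶ Z).appLE (g ⁻¹ᵁ V₀) (g ⁻¹ᵁ D) e')
      (g.app D) := by
    simp only [Scheme.Hom.app_eq_appLE]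
    exact hiso
  algebraize [((𝟙 S : S ⟶ S).appLE V₀ D e).hom, ((𝟙 Z : Z ⟶ Z).appLE (g ⁻¹ᵁ V₀) (g ⁻¹ᵁ D) e').hom, (g.app D).hom,
    (g.app V₀ ≫ (𝟙 Z : Z ⟶ Z).appLE (g ⁻¹ᵁ V₀) (g ⁻¹ᵁ D) e').hom]
  haveI : IsScalarTower Γ(S, V₀) Γ(S, D) Γ(Z, g ⁻¹ᵁ D) := .of_algebraMap_eq fun a => congr($(hpo.w).hom a)
  haveI : IsScalarTower Γ(S, V₀) Γ(Z, g ⁻¹ᵁ V₀) Γ(Z, g ⁻¹ᵁ D) := .of_algebraMap_eq fun a => rfl
  haveI : Algebra.IsPushout Γ(S, V₀) Γ(S, D) Γ(Z, g ⁻¹ᵁ V₀) Γ(Z, g ⁻¹ᵁ D) :=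
    CommRingCat.isPushout_iff_isPushout.mp hpo.flip
  have halg : algebraMap Γ(S, V₀) Γ(S, D) = (S.presheaf.map (homOfLE (S.basicOpen_le r)).op).hom := by
    rw [RingHom.algebraMap_toAlgebra]
  haveI : IsLocalization.Away r Γ(S, D) := by
    have h := hV₀.isLocalization_basicOpen r
    have ha : (S.presheaf.map (homOfLE (S.basicOpen_le r)).op).hom.toAlgebra = RingHom.toAlgebra (algebraMap Γ(S, V₀) Γ(S, D)) := by
      rw [halg]
    convert h using 1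
  let σ : Localization.Away r ≃ₐ[Γ(S, V₀)] Γ(S, D) := IsLocalization.algEquiv (Submonoid.powers r) _ _
  haveI : Module.Free Γ(S, D) (Γ(S, D) ⊗[Γ(S, V₀)] Γ(Z, g ⁻¹ᵁ V₀)) := by
    let t := (Algebra.TensorProduct.congr σ (AlgEquiv.refl : Γ(Z, g ⁻¹ᵁ V₀) ≃ₐ[Γ(S, V₀)] _)).toRingEquiv
    haveI := RingHomInvPair.of_ringEquiv σ.toRingEquiv
    haveI := RingHomInvPair.of_ringEquiv σ.toRingEquiv.symm
    refine Module.Free.of_equiv (σ := (σ.toRingEquiv : Localization.Away r →+* Γ(S, D)))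
      (σ' := (σ.toRingEquiv.symm : Γ(S, D) →+* Localization.Away r)) { t.toAddEquiv with map_smul' := fun a x => ?_ }
    induction x using TensorProduct.induction_on with
    | zero => simp
    | add x y hx hy =>
      show t (a • (x + y)) = σ a • t (x + y)
      rw [smul_add, map_add, map_add, smul_add]
      exact congrArg₂ (· + ·) hx hy
    | tmul c m => simp [t, TensorProduct.smul_tmul']
  exact Module.Free.of_equiv
    (Algebra.IsPushout.out (R := Γ(S, V₀)) (S := Γ(S, D)) (R' := Γ(Z, g ⁻¹ᵁ V₀)) (S' := Γ(Z, g ⁻¹ᵁ D))).equiv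

variable {f : X ⟶ S}

set_option maxHeartbeats 800000 in
/-- A chart on a pair of affine opens. -/
theorem exists_chart (hg : Mor2.IsFinLocFree g) {V : S.Opens} (hV : IsAffineOpen V)
    (hfree : letI := (g.app V).hom.toAlgebra; Module.Free Γ(S, V) Γ(Z, g ⁻¹ᵁ V))
    {U : X.Opens} (hU : IsAffineOpen U) (hUV : U ≤ f ⁻¹ᵁ V) :
    ∃ W : Over (V : Scheme.{u}), IsAffine W.left ∧
      Nonempty ((Flatn.morS (g ∣_ V) (f.resLE V U hUV)).RepresentableBy W) := by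
  haveI := hg.1
  haveI : IsAffine (V : Scheme.{u}) := hV
  haveI : IsAffine (U : Scheme.{u}) := hU
  haveI : IsAffine (g ⁻¹ᵁ V : Scheme.{u}) := hV.preimage g
  haveI : IsFinite (g ∣_ V) := MorphismProperty.of_isPullback (isPullback_morphismRestrict g V).flip inferInstance
  letI algV := (g ∣_ V).appTop.hom.toAlgebra
  haveI : Module.Finite Γ(V, ⊤) Γ(g ⁻¹ᵁ V, ⊤) := IsFinite.finite_app (g ∣_ V) ⊤ (isAffineOpen_top _)
  letI := (g.app V).hom.toAlgebra
  let e₁ : Γ(S, V) ≃+* Γ(V, ⊤) := V.topIso.symm.commRingCatIsoToRingEquiv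
  let e₂ : Γ(Z, g ⁻¹ᵁ V) ≃+* Γ(g ⁻¹ᵁ V, ⊤) := (g ⁻¹ᵁ V).topIso.symm.commRingCatIsoToRingEquiv
  have he : ∀ a, e₂ (g.app V a) = (g ∣_ V).appTop (e₁ a) := by
    intro a
    show (g.app V ≫ (g ⁻¹ᵁ V).topIso.inv) a = (V.topIso.inv ≫ (g ∣_ V).appTop) a
    refine congrArg (fun k : Γ(S, V) ⟶ Γ(g ⁻¹ᵁ V, ⊤) => k a) ?_
    rw [morphismRestrict_appTop]
    simp [Scheme.Opens.topIso, g.naturality_assoc, ← Functor.map_comp]
    exact congrArg (fun i => g.app V ≫ Z.presheaf.map i) (Subsingleton.elim _ _)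
  haveI : Module.Free Γ(V, ⊤) Γ(g ⁻¹ᵁ V, ⊤) := by
    haveI := RingHomInvPair.of_ringEquiv e₁
    haveI := RingHomInvPair.of_ringEquiv e₁.symm
    refine Module.Free.of_equiv (σ := (e₁ : Γ(S, V) →+* Γ(V, ⊤))) (σ' := (e₁.symm : Γ(V, ⊤) →+* Γ(S, V)))
      { e₂.toAddEquiv with map_smul' := fun a x => ?_ }
    show e₂ (g.app V a * x) = (g ∣_ V).appTop (e₁ a) * e₂ x
    rw [map_mul, he]
  exact exists_affine_representable (g ∣_ V) (f.resLE V U hUV) (RingHom.algebraMap_toAlgebra _)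
    (Module.Free.chooseBasis _ _)

/-- The charts cover as soon as finite sets in fibres lie in affine opens. -/
theorem exists_mem_loc (hg : Mor2.IsFinLocFree g)
    (hAF : ∀ (s : S) (d : ℕ) (x : Fin d → ↥X), (∀ k, f (x k) = s) → ∃ U : X.Opens, IsAffineOpen U ∧ ∀ k, x k ∈ U)
    {T : Scheme.{u}} (e : Pt g f T) (t : T) :
    haveI := hg.1
    ∃ c : Chart g f, t ∈ c.Loc e := by
  haveI := hg.1
  let π := pullback.fst e.h g
  have hP : (π ⁻¹' {t}).Finite := π.finite_preimage_singleton t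
  have hQ : (e.β '' (π ⁻¹' {t})).Finite := hP.image _
  have hQs : ∀ x ∈ e.β '' (π ⁻¹' {t}), f x = e.h t := by
    rintro _ ⟨q, hq, rfl⟩
    rw [← Scheme.Hom.comp_apply, e.w, ← pullback.condition, Scheme.Hom.comp_apply]
    exact congrArg _ hq
  obtain ⟨d, x, hx⟩ := hQ.fin_embedding
  obtain ⟨U₀, hU₀, hxU⟩ := hAF (e.h t) d x fun k => hQs _ (hx ▸ Set.mem_range_self k)
  have hQU : e.β '' (π ⁻¹' {t}) ⊆ U₀ := by
    rw [← hx]; rintro _ ⟨k, rfl⟩; exact hxU k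
  obtain ⟨V, hV, htV, hfree⟩ := exists_affine_free hg (e.h t)
  obtain ⟨a, haP, haV⟩ := GrpdLib.exists_basicOpen_of_finite hU₀ hQ (U₀ ⊓ f ⁻¹ᵁ V) hQU
    fun y hy => ⟨hQU hy, by show f y ∈ V; rw [hQs y hy]; exact htV⟩
  have hUV : X.basicOpen a ≤ f ⁻¹ᵁ V := haV.trans inf_le_right
  refine ⟨⟨V, X.basicOpen a, hUV, exists_chart hg hV hfree (hU₀.basicOpen a) hUV⟩, ?_⟩
  exact (Chart.mem_loc _ e t).2 ⟨htV, fun q hq => haP ⟨q, hq, rfl⟩⟩

/-- `Mor_S(Z, X)` is representable when finite sets in fibres lie in affine opens. -/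
theorem isRepresentable_of_AF (hg : Mor2.IsFinLocFree g)
    (hAF : ∀ (s : S) (d : ℕ) (x : Fin d → ↥X), (∀ k, f (x k) = s) → ∃ U : X.Opens, IsAffineOpen U ∧ ∀ k, x k ∈ U) :
    (Flatn.morS g f).IsRepresentable := by
  haveI := hg.1
  obtain ⟨H, u, hu⟩ := exists_universal_pt fun e t => exists_mem_loc hg hAF e t
  exact ⟨_, representableBy_of_universal u hu⟩

/-- For affine `X → S`, `Mor_S(Z, X)` is affine over `S`. -/
theorem exists_affineHom_representable (hg : Mor2.IsFinLocFree g) [IsAffineHom f] :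
    ∃ W : Over S, IsAffineHom W.hom ∧ Nonempty ((Flatn.morS g f).RepresentableBy W) := by
  haveI := hg.1
  have hcov : ∀ {T : Scheme.{u}} (e : Pt g f T) (t : T), ∃ c : Chart g f, t ∈ c.Loc e := by
    intro T e t
    obtain ⟨V, hV, htV, hfree⟩ := exists_affine_free hg (e.h t)
    refine ⟨⟨V, f ⁻¹ᵁ V, le_rfl, exists_chart hg hV hfree (hV.preimage f) le_rfl⟩, ?_⟩
    refine (Chart.mem_loc _ e t).2 ⟨htV, fun q hq => ?_⟩
    show f (e.β q) ∈ V
    rw [← Scheme.Hom.comp_apply, e.w, ← pullback.condition, Scheme.Hom.comp_apply, hq]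
    exact htV
  obtain ⟨H, u, hu⟩ := exists_universal_pt hcov
  refine ⟨Over.mk u.h, ?_, representableBy_of_universal u hu⟩
  show IsAffineHom u.h
  refine isAffineHom_of_forall_exists_isAffineOpen _ fun s => ?_
  obtain ⟨V, hV, hs, hfree⟩ := exists_affine_free hg s
  let c : Chart g f := ⟨V, f ⁻¹ᵁ V, le_rfl, exists_chart hg hV hfree (hV.preimage f) le_rfl⟩
  refine ⟨V, hs, hV, ?_⟩
  have heq : c.Loc u = u.h ⁻¹ᵁ V := by
    ext t
    refine (c.mem_loc u t).trans ⟨And.left, fun h => ⟨h, fun q hq => ?_⟩⟩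
    show f (u.β q) ∈ V
    rw [← Scheme.Hom.comp_apply, u.w, ← pullback.condition, Scheme.Hom.comp_apply, hq]
    exact h
  rw [← heq]
  exact c.isAffineOpen_loc u hu

end Groth.Agent.H4Weil
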