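import Groth.Agent.H4Weil.Chart
import Mathlib.AlgebraicGeometry.Sites.Representability
import Mathlib.AlgebraicGeometry.Pullbacks
import Mathlib

/-!
# Gluing the charts of `Mor_S(Z, X)`
-/

set_option autoImplicit false
set_option linter.style.haveILetI false
set_option linter.unusedSectionVars false
set_option backward.isDefEq.respectTransparency false
set_option backward.isDefEq.respectTransparency.types false

universe u

open CategoryTheory CategoryTheory.Limits AlgebraicGeometry Opposite TopologicalSpace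

namespace Groth.Agent.H4Weil

variable {X Z S : Scheme.{u}} {g : Z ⟶ S} {f : X ⟶ S}

set_option maxHeartbeats 1000000 in
/-- `Mor_S(Z, X)` is a Zariski sheaf. -/
theorem isSheaf : Presieve.IsSheaf Scheme.zariskiTopology (functor g f) := by
  rw [Precoverage.isSheaf_toGrothendieck_iff_of_isStableUnderBaseChange_of_small.{u}]
  intro T (𝒰 : Scheme.OpenCover.{u} T) x hx
  let e : ∀ i, Pt g f (𝒰.X i) := fun i => x (𝒰.f i) (.mk i)
  have hcompat : ∀ {W : Scheme.{u}} {i j : 𝒰.I₀} (a : W ⟶ 𝒰.X i) (b : W ⟶ 𝒰.X j), a ≫ 𝒰.f i = b ≫ 𝒰.f j →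
      (e i).pull a = (e j).pull b := fun a b h => hx a b _ _ h
  let h : T ⟶ S := Scheme.Cover.glueMorphisms 𝒰 (fun i => (e i).h) (fun i j =>
    congrArg Pt.h (hcompat _ _ (pullback.condition (f := 𝒰.f i) (g := 𝒰.f j))))
  have hg : ∀ i, 𝒰.f i ≫ h = (e i).h := fun i => Scheme.Cover.ι_glueMorphisms _ _ _ i
  have hxe : ∀ i, x (𝒰.f i) (.mk i) = e i := fun _ => rfl
  clear_value h e
  have hw : ∀ i, pullback.fst (𝒰.f i ≫ h) g ≫ (e i).h = pullback.snd (𝒰.f i ≫ h) g ≫ g := fun i => by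
    rw [← hg i]; exact pullback.condition
  let 𝒱 := Scheme.Pullback.openCoverOfLeft 𝒰 h g
  have hfst : ∀ i, 𝒱.f i ≫ pullback.fst h g = pullback.fst (𝒰.f i ≫ h) g ≫ 𝒰.f i := fun i =>
    pullback.lift_fst _ _ _
  have hsnd : ∀ i, 𝒱.f i ≫ pullback.snd h g = pullback.snd (𝒰.f i ≫ h) g := fun i =>
    (pullback.lift_snd _ _ _).trans (Category.comp_id _)
  let β : pullback h g ⟶ X := Scheme.Cover.glueMorphisms 𝒱
    (fun i => (e i).app (pullback.fst (𝒰.f i ≫ h) g) (pullback.snd (𝒰.f i ≫ h) g) (hw i)) (fun i j => by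
      have hc := pullback.condition (f := 𝒱.f i) (g := 𝒱.f j)
      have h1 : (pullback.fst (𝒱.f i) (𝒱.f j) ≫ pullback.fst (𝒰.f i ≫ h) g) ≫ 𝒰.f i =
          (pullback.snd (𝒱.f i) (𝒱.f j) ≫ pullback.fst (𝒰.f j ≫ h) g) ≫ 𝒰.f j := by
        rw [Category.assoc, Category.assoc, ← hfst, ← hfst, reassoc_of% hc]
      have h2 : pullback.fst (𝒱.f i) (𝒱.f j) ≫ pullback.snd (𝒰.f i ≫ h) g =
          pullback.snd (𝒱.f i) (𝒱.f j) ≫ pullback.snd (𝒰.f j ≫ h) g := by
        rw [← hsnd, ← hsnd, reassoc_of% hc]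
      have hp := hcompat _ _ h1
      rw [Pt.comp_app, Pt.comp_app]
      have e1 := Pt.app_congr hp (rfl : 𝟙 (pullback (𝒱.f i) (𝒱.f j)) = _) h2
        (by
          show 𝟙 _ ≫ _ ≫ (e i).h = _
          rw [Category.id_comp, Category.assoc, hw i, Category.assoc])
        (by
          show 𝟙 _ ≫ _ ≫ (e j).h = _
          rw [Category.id_comp, Category.assoc, hw j, Category.assoc])
      rw [Pt.app_pull, Pt.app_pull] at e1
      exact ((Pt.app_congr rfl (Category.id_comp _).symm rfl _ _).trans e1).trans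
        (Pt.app_congr rfl (Category.id_comp _) rfl _ _))
  have hβ : ∀ i, 𝒱.f i ≫ β = (e i).app (pullback.fst (𝒰.f i ≫ h) g) (pullback.snd (𝒰.f i ≫ h) g) (hw i) :=
    fun i => Scheme.Cover.ι_glueMorphisms _ _ _ i
  clear_value β
  have hβw : β ≫ f = pullback.snd h g ≫ g := 𝒱.hom_ext _ _ fun i => by
    rw [reassoc_of% (hβ i), (e i).app_comp_f, reassoc_of% (hsnd i)]
  refine ⟨(⟨h, β, hβw⟩ : Pt g f T), ?_, ?_⟩
  · rintro W v ⟨i⟩
    refine Eq.trans ?_ (hxe i).symm
    show Pt.pull (𝒰.f i) (⟨h, β, hβw⟩ : Pt g f T) = e i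
    refine Pt.ext' (hg i) fun Y p z hw₁ hw₂ => ?_
    rw [Pt.app_pull]
    show pullback.lift (p ≫ 𝒰.f i) z _ ≫ β = _
    have hl : pullback.lift (f := h) (g := g) (p ≫ 𝒰.f i) z (by rw [Category.assoc]; exact hw₁) =
        pullback.lift (f := 𝒰.f i ≫ h) (g := g) p z hw₁ ≫ 𝒱.f i := by
      apply pullback.hom_ext
      · rw [pullback.lift_fst, Category.assoc, hfst, pullback.lift_fst_assoc]
      · rw [pullback.lift_snd, Category.assoc, hsnd, pullback.lift_snd]
    rw [hl, Category.assoc, hβ, Pt.comp_app]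
    exact Pt.app_congr rfl (pullback.lift_fst _ _ _) (pullback.lift_snd _ _ _) _ _
  · rintro ⟨h', β', hw'⟩ hy
    have hy' : ∀ i, Pt.pull (𝒰.f i) (⟨h', β', hw'⟩ : Pt g f T) = e i := fun i => (hy (𝒰.f i) (.mk i)).trans (hxe i)
    obtain rfl : h' = h := 𝒰.hom_ext _ _ fun i => by
      rw [hg]; exact congrArg Pt.h (hy' i)
    obtain rfl : β' = β := 𝒱.hom_ext _ _ fun i => by
      rw [hβ]
      refine Eq.trans ?_ (Pt.app_congr (hy' i) rfl rfl pullback.condition _)
      rw [Pt.app_pull]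
      show _ = pullback.lift _ _ _ ≫ β'
      congr 1
    rfl

variable (c : Chart g f) [IsFinite g]

/-- The classifying map of a chart. -/
noncomputable def Chart.nat : yoneda.obj c.W.left ⟶ functor g f := yonedaEquiv.symm c.univ

theorem Chart.isOpenImmersion_nat : IsOpenImmersion.presheaf c.nat := by
  refine MorphismProperty.relative.of_exists fun T t => ?_
  let e : Pt g f T := yonedaEquiv t
  have ht : ∀ (W : Scheme.{u}) (h : W ⟶ T), t.app (op W) h = e.pull h := fun W h =>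
    (congrArg (fun t => t.app (op W) h) (yonedaEquiv.symm_apply_apply t)).symm
  let Ω := c.Loc e
  have hΩ : c.Loc (e.pull Ω.ι) = ⊤ := by
    rw [c.loc_pull]
    exact Scheme.Opens.ι_preimage_self Ω
  obtain ⟨ι₀, hι₀, -⟩ := c.existsUnique_pull_univ _ hΩ
  refine ⟨Ω, yoneda.map ι₀, Ω.ι, ?_, inferInstance⟩
  refine IsPullback.of_forall_isPullback_app fun W => (Types.isPullback_iff _ _ _ _).2 ⟨?_, ?_, ?_⟩
  · refine ConcreteCategory.hom_ext _ _ fun l => ?_
    show c.nat.app W (l ≫ ι₀) = t.app W (l ≫ Ω.ι)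
    rw [ht, Pt.pull_comp]
    show c.univ.pull (l ≫ ι₀) = _
    rw [Pt.pull_comp, hι₀]
  · rintro l l' ⟨-, h⟩
    exact (cancel_mono Ω.ι).1 h
  · intro (ι : W.unop ⟶ c.W.left) (h : W.unop ⟶ T) hιh
    have hιh' : c.univ.pull ι = e.pull h := hιh.trans (ht _ h)
    have h1 : c.Loc (c.univ.pull ι) = ⊤ := by rw [c.loc_pull, c.loc_univ]; rfl
    rw [hιh', c.loc_pull] at h1
    have hrange : Set.range h ⊆ Set.range Ω.ι := by
      rw [Scheme.Opens.range_ι]
      rintro _ ⟨z, rfl⟩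
      exact h1.ge (Set.mem_univ z)
    refine ⟨IsOpenImmersion.lift Ω.ι h hrange, ?_, IsOpenImmersion.lift_fac _ _ _⟩
    show IsOpenImmersion.lift Ω.ι h hrange ≫ ι₀ = ι
    refine (c.existsUnique_pull_univ (e.pull h) (by rw [c.loc_pull, h1])).unique ?_ hιh'
    rw [Pt.pull_comp, hι₀, ← Pt.pull_comp, IsOpenImmersion.lift_fac]

omit c in
theorem isLocallySurjective (hcov : ∀ {T : Scheme.{u}} (e : Pt g f T) (t : T), ∃ c : Chart g f, t ∈ c.Loc e) :
    Presheaf.IsLocallySurjective Scheme.zariskiTopology (Sigma.desc fun c : Chart g f => c.nat) := by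
  refine ⟨fun {T} e => ?_⟩
  choose c hc using fun t => hcov e t
  let 𝒰 := T.openCoverOfIsOpenCover (fun t => (c t).Loc e)
    (TopologicalSpace.IsOpenCover.mk (top_le_iff.1 fun t _ => Opens.mem_iSup.2 ⟨t, hc t⟩))
  refine GrothendieckTopology.superset_covering _ ?_ (Scheme.Cover.mem_grothendieckTopology 𝒰)
  rw [Sieve.generate_le_iff]
  rintro W v ⟨t⟩
  have hΩ : (c t).Loc (Pt.pull ((c t).Loc e).ι e) = ⊤ := by
    rw [(c t).loc_pull]
    exact Scheme.Opens.ι_preimage_self _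
  obtain ⟨ι, hι, -⟩ := (c t).existsUnique_pull_univ _ hΩ
  refine ⟨(Sigma.ι (fun c : Chart g f => yoneda.obj c.W.left) (c t)).app _ ι, ?_⟩
  rw [← CategoryTheory.NatTrans.comp_app_apply, Sigma.ι_desc]
  exact hι

omit c in
/-- A representing scheme, with the universal point. -/
theorem exists_universal_pt (hcov : ∀ {T : Scheme.{u}} (e : Pt g f T) (t : T), ∃ c : Chart g f, t ∈ c.Loc e) :
    ∃ (H : Scheme.{u}) (u : Pt g f H), ∀ {T : Scheme.{u}} (e : Pt g f T), ∃! m : T ⟶ H, u.pull m = e := by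
  let F : Sheaf Scheme.zariskiTopology (Type u) := ⟨functor g f, (isSheaf_iff_isSheaf_of_type _ _).2 isSheaf⟩
  haveI := isLocallySurjective hcov
  obtain ⟨H, ⟨r⟩⟩ := Scheme.LocalRepresentability.isRepresentable (F := F) (X := fun c : Chart g f => c.W.left)
    (f := fun c => c.nat) (fun c => c.isOpenImmersion_nat)
  refine ⟨H, r.homEquiv (𝟙 H), fun {T} e => ?_⟩
  obtain ⟨m, hm, hmu⟩ := r.homEquiv.bijective.existsUnique e
  exact ⟨m, (r.homEquiv_eq m).symm.trans hm, fun m' hm' => hmu m' ((r.homEquiv_eq m').trans hm')⟩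

omit [IsFinite g] c in
/-- A universal point gives a representation. -/
theorem representableBy_of_universal {H : Scheme.{u}} (u : Pt g f H)
    (hu : ∀ {T : Scheme.{u}} (e : Pt g f T), ∃! m : T ⟶ H, u.pull m = e) :
    Nonempty ((Flatn.morS g f).RepresentableBy (Over.mk u.h)) := by
  let η : (Flatn.morS g f).obj (op (Over.mk u.h)) := Over.homMk u.β u.w
  refine nonempty_representableBy g f (Over.mk u.h) η fun T _ => ?_
  have hφ : ∀ φ : T ⟶ Over.mk u.h, φ.left ≫ u.h = T.hom := fun φ => Over.w φ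
  have hcls : ∀ (φ : T ⟶ Over.mk u.h) (Y : Scheme.{u}) (p : Y ⟶ T.left) (z : Y ⟶ Z) (hw : p ≫ T.hom = z ≫ g)
      (hw' : (p ≫ φ.left) ≫ u.h = z ≫ g),
      pullback.lift p z hw ≫ (cls g f (Over.mk u.h) η T φ).left = u.app (p ≫ φ.left) z hw' := by
    intro φ Y p z hw hw'
    show pullback.lift p z hw ≫ ((Over.pullback g).map φ).left ≫ u.β = _
    rw [← Category.assoc, Pt.app]
    congr 1
    apply pullback.hom_ext
    · refine ((Category.assoc _ _ _).trans ((congrArg (CategoryStruct.comp _) (pullback.lift_fst _ _ _)).trans ?_)).trans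
        (pullback.lift_fst _ _ _).symm
      exact pullback.lift_fst_assoc _ _ _ _
    · refine ((Category.assoc _ _ _).trans ((congrArg (CategoryStruct.comp _) (pullback.lift_snd _ _ _)).trans ?_)).trans
        (pullback.lift_snd _ _ _).symm
      exact pullback.lift_snd _ _ _
  refine ⟨fun φ φ' hφφ' => ?_, fun b => ?_⟩
  · refine Over.OverMorphism.ext ((hu (u.pull φ'.left)).unique ?_ rfl)
    refine Pt.ext' ((hφ φ).trans (hφ φ').symm) fun Y p z hw hw' => ?_
    rw [Pt.app_pull, Pt.app_pull]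
    have hw₀ : p ≫ T.hom = z ≫ g := by rw [← hφ φ]; exact hw
    rw [← hcls φ Y p z hw₀, ← hcls φ' Y p z hw₀, hφφ']
  · let b₁ : (Over.map g).obj ((Over.pullback g).obj T) ⟶ Over.mk f := b
    obtain ⟨m, hm, -⟩ := hu (⟨T.hom, b₁.left, Over.w b₁⟩ : Pt g f T.left)
    have hmh : m ≫ u.h = T.hom := congrArg Pt.h hm
    refine ⟨Over.homMk m hmh, Over.OverMorphism.ext ?_⟩
    have h1 := hcls (Over.homMk m hmh) _ (pullback.fst T.hom g) (pullback.snd T.hom g) pullback.condition
      (by rw [Category.assoc]; exact (congrArg _ hmh).trans pullback.condition)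
    rw [show pullback.lift (pullback.fst T.hom g) (pullback.snd T.hom g) pullback.condition = 𝟙 _ from
      pullback.hom_ext (by simp) (by simp)] at h1
    refine ((Category.id_comp _).symm.trans h1).trans ?_
    refine ((Pt.app_pull m u _ _ (by
      show _ ≫ m ≫ u.h = _
      rw [hmh]; exact pullback.condition)).symm.trans
      (Pt.app_congr hm rfl rfl _ pullback.condition)).trans (Pt.app_fst_snd _)

/-- The open of a universal scheme over a chart is the chart's scheme. -/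
theorem Chart.isAffineOpen_loc {H : Scheme.{u}} (u : Pt g f H)
    (hu : ∀ {T : Scheme.{u}} (e : Pt g f T), ∃! m : T ⟶ H, u.pull m = e) : IsAffineOpen (c.Loc u) := by
  let Ω := c.Loc u
  have hΩ : c.Loc (u.pull Ω.ι) = ⊤ := by
    rw [c.loc_pull]
    exact Scheme.Opens.ι_preimage_self Ω
  obtain ⟨a, ha, -⟩ := c.existsUnique_pull_univ _ hΩ
  obtain ⟨j, hj, -⟩ := hu c.univ
  have hjΩ : Set.range j ⊆ Set.range Ω.ι := by
    rw [Scheme.Opens.range_ι]
    rintro _ ⟨z, rfl⟩
    have h1 := c.loc_univ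
    rw [← hj, c.loc_pull] at h1
    exact h1.ge (Set.mem_univ z)
  let b := IsOpenImmersion.lift Ω.ι j hjΩ
  have hb : b ≫ Ω.ι = j := IsOpenImmersion.lift_fac _ _ _
  have h1 : a ≫ b = 𝟙 _ := by
    rw [← cancel_mono Ω.ι, Category.assoc, hb, Category.id_comp]
    refine (hu (u.pull Ω.ι)).unique ?_ rfl
    rw [Pt.pull_comp, hj, ha]
  have h2 : b ≫ a = 𝟙 _ := by
    refine (c.existsUnique_pull_univ c.univ c.loc_univ).unique ?_ c.univ.pull_id
    rw [Pt.pull_comp, ha, ← Pt.pull_comp, hb, hj]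
  haveI := c.isAffine
  haveI : IsIso a := ⟨b, h1, h2⟩
  exact IsAffine.of_isIso a

end Groth.Agent.H4Weil
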