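import Groth.Prelude.Def_Flatn
import Mathlib.AlgebraicGeometry.Pullbacks
import Mathlib.AlgebraicGeometry.Gluing
import Mathlib.CategoryTheory.Comma.Over.Pullback

/-!
# A universal morphism which is universal on affine schemes represents `Mor_S(Z, X)`
-/

universe u

open CategoryTheory CategoryTheory.Limits AlgebraicGeometry Opposite

namespace Groth.Agent.H4Weil

variable {X S Z : Scheme.{u}} (g : Z ⟶ S) (f : X ⟶ S) (W : Over S) (η : (Flatn.morS g f).obj (op W))

/-- The morphism classified by a point of `W`. -/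
noncomputable def cls (T : Over S) (φ : T ⟶ W) : (Flatn.morS g f).obj (op T) := (Flatn.morS g f).map φ.op η

theorem cls_comp {T T' : Over S} (ι : T' ⟶ T) (φ : T ⟶ W) :
    cls g f W η T' (ι ≫ φ) = (Flatn.morS g f).map ι.op (cls g f W η T φ) := by
  simp only [cls, op_comp, FunctorToTypes.map_comp_apply]

set_option backward.isDefEq.respectTransparency false in
set_option backward.isDefEq.respectTransparency.types false in
/-- `Mor_S(Z, X)` is separated for Zariski coverings. -/
theorem morS_ext {T : Over S} (𝒰 : T.left.OpenCover) (b b' : (Flatn.morS g f).obj (op T))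
    (h : ∀ i, (Flatn.morS g f).map (Over.homMk (U := Over.mk (𝒰.f i ≫ T.hom)) (V := T) (𝒰.f i) rfl).op b =
      (Flatn.morS g f).map (Over.homMk (U := Over.mk (𝒰.f i ≫ T.hom)) (V := T) (𝒰.f i) rfl).op b') : b = b' := by
  refine Over.OverMorphism.ext ((Scheme.Pullback.openCoverOfLeft 𝒰 T.hom g).hom_ext _ _ fun i => ?_)
  have hi := congrArg CommaMorphism.left (h i)
  rw [Flatn.morS_map, Flatn.morS_map] at hi
  have hm : (Scheme.Pullback.openCoverOfLeft 𝒰 T.hom g).f i =
      ((Over.map g).map ((Over.pullback g).map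
        (Over.homMk (U := Over.mk (𝒰.f i ≫ T.hom)) (V := T) (𝒰.f i) rfl))).left := by
    show pullback.map (𝒰.f i ≫ T.hom) g T.hom g (𝒰.f i) (𝟙 Z) (𝟙 S) (by simp) (by simp) = _
    refine pullback.hom_ext ?_ ?_
    · simp [pullback.map]
    · simp [pullback.map]
  rw [hm]
  exact hi

set_option backward.isDefEq.respectTransparency false in
set_option backward.isDefEq.respectTransparency.types false in
theorem bijective_cls (hη : ∀ (T : Over S) [IsAffine T.left], Function.Bijective (cls g f W η T)) (T : Over S) :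
    Function.Bijective (cls g f W η T) := by
  have inj : ∀ T : Over S, Function.Injective (cls g f W η T) := by
    intro T φ φ' h
    let 𝒰 := T.left.affineCover
    refine Over.OverMorphism.ext (𝒰.hom_ext _ _ fun i => ?_)
    let ι : Over.mk (𝒰.f i ≫ T.hom) ⟶ T := Over.homMk (𝒰.f i) rfl
    haveI : IsAffine (Over.mk (𝒰.f i ≫ T.hom)).left := inferInstanceAs (IsAffine (𝒰.X i))
    exact congrArg CommaMorphism.left ((hη (Over.mk (𝒰.f i ≫ T.hom))).1
      (show cls g f W η _ (ι ≫ φ) = cls g f W η _ (ι ≫ φ') by rw [cls_comp, cls_comp, h]))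
  refine ⟨inj T, fun b => ?_⟩
  let 𝒰 := T.left.affineCover
  let ι : ∀ i, Over.mk (𝒰.f i ≫ T.hom) ⟶ T := fun i => Over.homMk (𝒰.f i) rfl
  have hex : ∀ i, ∃ φ, cls g f W η _ φ = (Flatn.morS g f).map (ι i).op b := fun i =>
    haveI : IsAffine (Over.mk (𝒰.f i ≫ T.hom)).left := inferInstanceAs (IsAffine (𝒰.X i))
    (hη _).2 _
  choose φ hφ using hex
  have hglue : ∀ i j, pullback.fst (𝒰.f i) (𝒰.f j) ≫ (φ i).left = pullback.snd (𝒰.f i) (𝒰.f j) ≫ (φ j).left := by
    intro i j
    let U := Over.mk (pullback.fst (𝒰.f i) (𝒰.f j) ≫ 𝒰.f i ≫ T.hom)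
    let a : U ⟶ Over.mk (𝒰.f i ≫ T.hom) := Over.homMk (pullback.fst _ _) rfl
    let c : U ⟶ Over.mk (𝒰.f j ≫ T.hom) := Over.homMk (pullback.snd _ _) (by
      show pullback.snd _ _ ≫ 𝒰.f j ≫ T.hom = pullback.fst _ _ ≫ 𝒰.f i ≫ T.hom
      rw [pullback.condition_assoc])
    have hac : a ≫ ι i = c ≫ ι j := Over.OverMorphism.ext pullback.condition
    have : a ≫ φ i = c ≫ φ j := inj U (by
      rw [cls_comp, cls_comp, hφ, hφ, ← FunctorToTypes.map_comp_apply, ← FunctorToTypes.map_comp_apply,
        ← op_comp, ← op_comp, hac])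
    exact congrArg CommaMorphism.left this
  let ψ : T ⟶ W := Over.homMk (𝒰.glueMorphisms (fun i => (φ i).left) hglue) (𝒰.hom_ext _ _ fun i => by
    rw [Scheme.Cover.ι_glueMorphisms_assoc]
    exact Over.w (φ i))
  refine ⟨ψ, morS_ext g f 𝒰 _ _ fun i => ?_⟩
  rw [← cls_comp, show Over.homMk (U := Over.mk (𝒰.f i ≫ T.hom)) (V := T) (𝒰.f i) rfl ≫ ψ = φ i from
    Over.OverMorphism.ext (Scheme.Cover.ι_glueMorphisms _ _ _ _)]
  exact hφ i

/-- A universal element on affine schemes gives a representation. -/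
theorem nonempty_representableBy (hη : ∀ (T : Over S) [IsAffine T.left], Function.Bijective (cls g f W η T)) :
    Nonempty ((Flatn.morS g f).RepresentableBy W) :=
  ⟨{ homEquiv := fun {T} => Equiv.ofBijective _ (bijective_cls g f W η hη T)
     homEquiv_comp := fun {T T'} ι φ => cls_comp g f W η ι φ }⟩

end Groth.Agent.H4Weil
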